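import Mathlib
import Cfsg.Agent.Lib.Helper41.PIM.Defs

/-!
# Project KSH (helper16): Brauer's theorem "number of simple `kG`-modules = number of `p`-regular classes"
by Külshammer's argument.  Definitions.

`k` a field of characteristic `p`, `A = MonoidAlgebra k G`.

* `commSpace k A = [A, A]`, the `k`-span of the additive commutators.
* `qq p G`: a power `p ^ e` with `g ^ qq p G = g_{p'}` for all `g : G`.
* `secSet p x = {g | g_{p'} ~ x}`, the `p`-section of `x`.
* `TT k p G`: the elements of `k[G]` all of whose section sums vanish (`= T(kG)`, Külshammer).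
* `pRegClasses p G`: the `p`-regular conjugacy classes.
-/

set_option autoImplicit false

namespace Cfsg.Agent.Lib.Helper16.KSH

open Cfsg Cfsg.Agent.Lib.Helper41.PIM

universe u

/-- the commutator subspace `[A, A]` -/
def commSpace (k : Type*) [CommSemiring k] (A : Type*) [Ring A] [Algebra k A] : Submodule k A :=
  Submodule.span k {c | ∃ a b : A, c = a * b - b * a}

/-- `qq p G = p ^ e` with `e = φ(m) (v + 1)`, `|G| = p ^ v m`, `p ∤ m`: then `p ^ e ≡ 1 (mod m)` and `v ≤ e`,
so `g ^ qq p G` is the `p'`-part of `g`. -/
def qq (p : ℕ) (G : Type u) [Fintype G] : ℕ :=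
  p ^ (Nat.totient (ordCompl[p] (Fintype.card G)) * ((Fintype.card G).factorization p + 1))

variable {G : Type u} [Group G] [Fintype G]

/-- the `p`-section of `x`: all `g` whose `p'`-part is conjugate to `x` -/
def secSet (p : ℕ) (x : G) : Set G := {g | IsConj (g ^ qq p G) x}

/-- the conjugacy class of `x` as a set -/
def clsSet (x : G) : Set G := {g | IsConj g x}

/-- Külshammer's space `T(kG)`: all section sums vanish -/
noncomputable def TT (k : Type*) [Field k] (p : ℕ) (G : Type u) [Group G] [Fintype G] :
    Submodule k (MonoidAlgebra k G) where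
  carrier := {a | ∀ x : G, ¬ p ∣ orderOf x → sumOn (secSet p x) a = 0}
  add_mem' := by
    intro a b ha hb x hx
    have : sumOn (secSet p x) (a + b) = sumOn (secSet p x) a + sumOn (secSet p x) b := by
      unfold sumOn
      rw [← Finset.sum_add_distrib]
      refine Finset.sum_congr rfl fun g _ => ?_
      split_ifs <;> simp
    rw [this, ha x hx, hb x hx, add_zero]
  zero_mem' := by
    intro x _
    unfold sumOn
    simp
  smul_mem' := by
    intro c a ha x hx
    have : sumOn (secSet p x) (c • a) = c * sumOn (secSet p x) a := by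
      unfold sumOn
      rw [Finset.mul_sum]
      refine Finset.sum_congr rfl fun g _ => ?_
      split_ifs <;> simp
    rw [this, ha x hx, mul_zero]

theorem mem_TT {k : Type*} [Field k] {p : ℕ} {a : MonoidAlgebra k G} :
    a ∈ TT k p G ↔ ∀ x : G, ¬ p ∣ orderOf x → sumOn (secSet p x) a = 0 := Iff.rfl

/-- the `p`-regular conjugacy classes -/
def pRegClasses (p : ℕ) (G : Type u) [Group G] : Type u :=
  {C : ConjClasses G // ∃ g : G, ConjClasses.mk g = C ∧ ¬ p ∣ orderOf g}

end Cfsg.Agent.Lib.Helper16.KSH
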